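import Groth.Agent.S11555
import Groth.Agent.Lib.Ref1.Extend
import Groth.Agent.Lib.EssDim.ConicCurve
import Groth.Prelude.Def_Pi1
import Groth.Prelude.Def_CohB1

/-!
# Fibres of a resolution over singular points of a normal surface
-/

set_option autoImplicit false
set_option linter.style.haveILetI false

universe u

open CategoryTheory AlgebraicGeometry TopologicalSpace

noncomputable section

namespace GrothLib.ExcDim29

variable {X Y : Scheme.{u}} (φ : Y ⟶ X)

/-- A point of an open over which a morphism is an isomorphism has isomorphic stalk. -/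
theorem bijective_stalkMap {U : X.Opens} (h : IsIso (φ ∣_ U)) {p : Y} (hp : φ p ∈ U) :
    Function.Bijective (φ.stalkMap p) := by
  haveI := h
  have h2 : IsIso (φ.stalkMap p) :=
    ((MorphismProperty.isomorphisms CommRingCat).arrow_mk_iso_iff
      (morphismRestrictStalkMap φ U ⟨p, hp⟩)).1 (by
        haveI : IsOpenImmersion (φ ∣_ U) := inferInstance
        exact (IsOpenImmersion.iff_isIso_stalkMap.1 this).2 _)
  exact ConcreteCategory.bijective_of_isIso (φ.stalkMap p)

theorem isRegular_of_mem [IsIntegral X] {U : X.Opens} (h : IsIso (φ ∣_ U))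
    (hreg : ∀ y : Y, IsRegularLocalRing (Y.presheaf.stalk y)) {x : X} (hx : x ∈ U) :
    IsRegularLocalRing (X.presheaf.stalk x) := by
  haveI := h
  obtain ⟨p, hp⟩ := (φ ∣_ U).homeomorph.surjective ⟨x, hx⟩
  have hpx : φ p.1 = x := by
    have h2 := congrArg Subtype.val hp
    rw [← morphismRestrict_base_coe φ U p]
    exact h2
  subst hpx
  haveI := hreg p.1
  exact IsRegularLocalRing.of_ringEquiv
    (RingEquiv.ofBijective (φ.stalkMap p.1).hom (bijective_stalkMap φ h hx)).symm

theorem main [IsIntegral X] [IsIntegral Y] [IsLocallyNoetherian X] [IsNoetherian Y] [IsProper φ] [JacobsonSpace X]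
    (hnorm : Pi1.IsNormalScheme X) (hdim : topologicalKrullDim X = 2) (hdimY : topologicalKrullDim Y = 2)
    (hreg : ∀ y : Y, IsRegularLocalRing (Y.presheaf.stalk y))
    (U : X.Opens) (hU : ((U : Set X)ᶜ).Finite) (hiso : IsIso (φ ∣_ U))
    (x : X) (hx : ¬ IsRegularLocalRing (X.presheaf.stalk x)) :
    (φ.base ⁻¹' ({x} : Set X)).Nonempty ∧
      ∀ Z ∈ irreducibleComponents ↥(φ.base ⁻¹' ({x} : Set X)), topologicalKrullDim ↥Z = 1 := by
  have hxU : x ∉ U := fun h => hx (isRegular_of_mem φ hiso hreg h)
  have hUne : (U : Set X).Nonempty := by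
    by_contra h
    rw [Set.not_nonempty_iff_eq_empty] at h
    rw [h, Set.compl_empty] at hU
    haveI : Finite X := Set.finite_univ_iff.1 hU
    haveI : DiscreteTopology X := JacobsonSpace.discreteTopology (Set.toFinite _)
    have h0 : topologicalKrullDim X ≤ 0 := topologicalKrullDim_zero_of_discreteTopology X
    rw [hdim] at h0
    exact absurd h0 (by decide)
  obtain ⟨u, hu⟩ := hUne
  haveI := hiso
  obtain ⟨p, -⟩ := (φ ∣_ U).homeomorph.surjective ⟨u, hu⟩
  have hη : genericPoint Y ∈ φ ⁻¹ᵁ U :=
    ((genericPoint_spec Y).mem_open_set_iff (φ ⁻¹ᵁ U).isOpen).2 ⟨p.1, Set.mem_univ _, p.2⟩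
  have hgU : genericPoint X ∈ U := ((genericPoint_spec X).mem_open_set_iff U.isOpen).2 ⟨u, Set.mem_univ _, hu⟩
  have hξ : φ (genericPoint Y) = genericPoint X := by
    obtain ⟨q, hq⟩ := (φ ∣_ U).homeomorph.surjective ⟨genericPoint X, hgU⟩
    have hq' : φ q.1 = genericPoint X := by
      have h2 := congrArg Subtype.val hq
      rw [← morphismRestrict_base_coe φ U q]
      exact h2
    refine (Specializes.antisymm ?_ (genericPoint_specializes _)).eq
    rw [← hq']
    exact (genericPoint_specializes q.1).map φ.continuous
  obtain ⟨V, hV, hiso2, -⟩ := Groth.Agent.S11555.result φ hnorm hξ (bijective_stalkMap φ hiso hη)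
  have hxV : x ∉ (V : Set X) := fun h => hx (isRegular_of_mem φ hV hreg h)
  have hxc : IsClosed ({x} : Set X) := by
    have hsub : ((U : Set X)ᶜ) ⊆ closedPoints X := by
      intro z hz
      have hfin : ((U : Set X)ᶜ ∩ closedPoints X).Finite := hU.inter_of_left _
      have hcl : IsClosed ((U : Set X)ᶜ ∩ closedPoints X) := by
        rw [← Set.biUnion_of_singleton ((U : Set X)ᶜ ∩ closedPoints X)]
        exact hfin.isClosed_biUnion fun w hw => hw.2
      have h2 := JacobsonSpace.closure_inter_closedPoints U.isOpen.isClosed_compl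
      rw [hcl.closure_eq] at h2
      exact (h2.ge hz).2
    exact hsub hxU
  have hsurj : Function.Surjective φ := by
    intro y
    have h2 : IsClosed (Set.range φ) := φ.isClosedMap.isClosed_range
    exact (genericPoint_specializes y).mem_closed h2 ⟨_, hξ⟩
  refine ⟨let ⟨q, hq⟩ := hsurj x; ⟨q, hq⟩, fun Z hZ => ?_⟩
  have hFc : IsClosed (φ.base ⁻¹' ({x} : Set X)) := hxc.preimage φ.continuous
  have hZc : IsClosed Z := isClosed_of_mem_irreducibleComponents Z hZ
  haveI : IrreducibleSpace Z := isIrreducible_iff_irreducibleSpace.1 hZ.1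
  let j : Z → Y := fun z => z.1.1
  have hj : Topology.IsClosedEmbedding j := hFc.isClosedEmbedding_subtypeVal.comp hZc.isClosedEmbedding_subtypeVal
  have hne : Set.range j ≠ Set.univ := by
    intro h
    obtain ⟨z, hz⟩ := h.ge (Set.mem_univ (genericPoint Y))
    have h3 : φ (genericPoint Y) = x := hz ▸ z.1.2
    exact hxU ((hξ.symm.trans h3) ▸ hgU)
  refine le_antisymm (GrothLib.EssDim.Conic.topologicalKrullDim_add_one_le j hj hne (n := 1) hdimY.le) ?_
  -- `Z` is not a single point
  have hns : ¬ (Subsingleton Z) := by
    intro hs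
    obtain ⟨z⟩ : Nonempty Z := inferInstance
    haveI : NoetherianSpace ↥(φ.base ⁻¹' ({x} : Set X)) := inferInstance
    have hopen : IsOpen ({z.1} : Set ↥(φ.base ⁻¹' ({x} : Set X))) := by
      have hfin := NoetherianSpace.finite_irreducibleComponents (α := ↥(φ.base ⁻¹' ({x} : Set X)))
      let R := ⋃ W ∈ irreducibleComponents ↥(φ.base ⁻¹' ({x} : Set X)) \ {Z}, W
      have hR : IsClosed R := (hfin.subset Set.sdiff_subset).isClosed_biUnion fun W hW =>
        isClosed_of_mem_irreducibleComponents W hW.1
      have heq : ({z.1} : Set ↥(φ.base ⁻¹' ({x} : Set X))) = Rᶜ := by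
        ext w
        simp only [Set.mem_singleton_iff, Set.mem_compl_iff, R, Set.mem_iUnion, not_exists, Set.mem_sdiff]
        constructor
        · rintro rfl W ⟨hW, hWne⟩ hzW
          refine hWne ((hZ.2 hW.1 ?_).antisymm ?_)
          · intro a ha
            have := congrArg Subtype.val (Subsingleton.elim (α := Z) ⟨a, ha⟩ z)
            simp only at this
            rw [this]
            first | exact hzW | exact z.2
          · intro a ha
            have := congrArg Subtype.val (Subsingleton.elim (α := Z) ⟨a, ha⟩ z)
            simp only at this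
            rw [this]
            first | exact hzW | exact z.2
        · intro h
          have hw : w ∈ irreducibleComponent w := mem_irreducibleComponent
          by_cases hWZ : irreducibleComponent w = Z
          · exact congrArg Subtype.val (Subsingleton.elim (α := Z) ⟨w, hWZ ▸ hw⟩ z)
          · exact absurd hw (h _ ⟨irreducibleComponent_mem_irreducibleComponents w, hWZ⟩)
      rw [heq]
      exact hR.isOpen_compl
    let e := φ.fiberHomeo x
    refine hiso2 x hxV (e.symm z.1) ?_
    rw [← Set.image_singleton]
    exact e.symm.isOpenMap _ hopen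
  rw [not_subsingleton_iff_nontrivial] at hns
  obtain ⟨z⟩ : Nonempty Z := inferInstance
  by_contra hlt
  have hle : topologicalKrullDim Z ≤ 0 := by
    rw [not_le] at hlt
    revert hlt
    generalize topologicalKrullDim Z = d
    induction d with
    | bot => exact fun _ => bot_le
    | coe d =>
      intro h
      have h2 : d < 1 := WithBot.coe_lt_coe.1 h
      exact WithBot.coe_le_coe.2 (ENat.lt_one_iff_eq_zero.1 h2).le
  obtain ⟨a, b, hab⟩ := exists_pair_ne Z
  have hirr := IrreducibleSpace.isIrreducible_univ Z
  -- a dimension zero irreducible sober space is a point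
  haveI : QuasiSober Z := hj.toIsEmbedding.isInducing |> fun _ => hj.quasiSober
  have hgp : ∀ c : Z, c = genericPoint Z := by
    intro c
    let A : IrreducibleCloseds Z := ⟨closure {c}, isIrreducible_singleton.closure, isClosed_closure⟩
    let T : IrreducibleCloseds Z := ⟨Set.univ, hirr, isClosed_univ⟩
    have hAT : A = T := by
      by_contra hne'
      have hlt' : A < T := lt_of_le_of_ne (fun _ _ => trivial) hne'
      let l : LTSeries (IrreducibleCloseds Z) := (RelSeries.singleton _ A).snoc T hlt'
      have := (Order.LTSeries.length_le_krullDim l).trans hle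
      have h1 : l.length = 1 := rfl
      rw [h1] at this
      exact absurd this (by decide)
    exact IsGenericPoint.eq (congrArg (fun S : IrreducibleCloseds Z => (S : Set Z)) hAT) (genericPoint_spec Z)
  exact hab ((hgp a).trans (hgp b).symm)

end GrothLib.ExcDim29
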